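/-
Relators on four involutions for the third Janko group and for two subgroups, found by a computer search.
-/
import Cfsg.Agent.Lib.Spor.TC.Word

namespace CfsgLib.Spor.J3

open CfsgLib.Spor.TC

/-- Relators on all four generators. -/
def relsJ : List PowRel := [
  ([0, 1], 2),
  ([2, 3], 2),
  ([0, 3], 3),
  ([0, 2, 3], 3),
  ([1, 3], 5),
  ([1, 2], 6),
  ([0, 1, 2, 0, 2, 1], 2),
  ([0, 2, 0, 3, 2, 3], 2),
  ([0, 3, 0, 3, 1, 3], 2),
  ([1, 2, 1, 2, 1, 3], 2),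
  ([0, 2, 1, 2], 5),
  ([0, 1, 2, 3, 2, 1, 3], 3),
  ([0, 1, 2, 1, 3], 5),
  ([0, 1, 2, 1, 2, 1, 2], 5)]

/-- Relators on the subgroup of index 6156. -/
def relsH : List PowRel := [
  ([0, 1], 2),
  ([1, 2], 6),
  ([0, 1, 2, 0, 2, 1], 2),
  ([0, 2, 1, 2], 5),
  ([0, 1, 2, 1, 2, 1, 2], 5)]

/-- Relators on the first two generators. -/
def relsV : List PowRel := [
  ([0, 1], 2)]

end CfsgLib.Spor.J3
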