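/-
Order and simplicity of a group presented on four involutions: the third Janko group.
-/
import Cfsg.Agent.Lib.Spor.Held.Extra
import Cfsg.Agent.Lib.Spor.J3.CJ.All
import Cfsg.Agent.Lib.Spor.J3.CH.All
import Cfsg.Agent.Lib.Spor.J3.CV.All
import Cfsg.Agent.Lib.Spor.J3.Nineteen.All
import Cfsg.Agent.Lib.Spor.J3.ActJ.All
import Cfsg.Prelude.Def_Sporadic

namespace CfsgLib.Spor.J3

open CfsgLib.Spor.TC MulAction

local notation "P₀" => Pres ActJ.act.k relsJ

theorem card_le_h : Nat.card (Pres 3 relsH) ≠ 0 ∧ Nat.card (Pres 3 relsH) ≤ 2040 * 4 :=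
  CH.cosetCert.card_le (rels' := relsV) (l := 2) (by decide) (by decide +kernel) CV.cosetCert.card_le_bot

theorem card_le : Nat.card P₀ ≠ 0 ∧ Nat.card P₀ ≤ 50232960 :=
  CJ.cosetCert.card_le (rels' := relsH) (l := 3) (by decide) (by decide +kernel) card_le_h

theorem levels_eq : levelsProd ActJ.bases = 50232960 := by decide +kernel

theorem card_eq : Nat.card P₀ = 50232960 :=
  le_antisymm card_le.2 (levels_eq ▸ card_pres_ge ActJ.act ActJ.valid ActJ.bases_ok card_le.1)

theorem rho_injective : Function.Injective ActJ.valid.rho :=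
  Held.rho_injective ActJ.valid ActJ.bases_ok ⟨card_le.1, levels_eq ▸ card_le.2⟩

/-- The point stabilizer. -/
def subH : Subgroup P₀ := Subgroup.closure (ActJ.act.letters relsJ '' {x | x ∈ [0, 1, 2]})

theorem subH_eq : subH = presSub ActJ.act.k relsJ [0, 1, 2] := by
  rw [subH, presSub]
  congr 1
  refine Set.image_congr fun x hx => ?_
  have : x < ActJ.act.k := (by decide : ∀ y ∈ [0, 1, 2], y < 4) x hx
  exact Act.letters_of_lt this

/-- The action on 6156 cosets. -/
@[reducible] noncomputable def actionJ : MulAction P₀ (Fin ActJ.act.n) := ActJ.valid.action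

attribute [local instance] actionJ

theorem exists_suborbitsJ :
    ∃ S : Suborbits P₀ subH (Fin ActJ.act.n) 8, (S.a : ℕ) = 0 ∧
      (∀ i : Fin 8, S.size i = [1, 85, 680, 1360, 1360, 2040, 510, 120].get i) ∧ S.rep 0 = S.a := by
  obtain ⟨S, h0, hsz, hrep⟩ := exists_suborbits (g := ActJ.act.letters relsJ)
    (fun x hx c => ActJ.valid.action_apply hx c) ActJ.top ActJ.top_ok rfl rfl [0, 1, 2] subH rfl ActJ.parts
    ActJ.parts_ok (subH_eq ▸ CJ.cosetCert.index_le)
  exact ⟨S, h0, fun i => (hsz ⟨i, i.2⟩).trans (by fin_cases i <;> rfl), hrep ⟨0, by decide⟩ rfl⟩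

theorem card_subH : Nat.card subH = 8160 := by
  obtain ⟨S, -, -, -⟩ := exists_suborbitsJ
  have h := subH.index_mul_card
  rw [S.index_eq, card_eq, Nat.card_fin] at h
  have : ActJ.act.n = 6156 := rfl
  rw [this] at h
  omega

/-- An element of order nineteen. -/
def wordN : List ℕ := [0, 1, 2, 0, 3, 1, 3]

set_option maxHeartbeats 4000000 in
theorem sameOK_nineteen : ActJ.act.sameOK (powWord wordN 19) [] = true := by decide +kernel

theorem simple : IsSimpleGroup P₀ := by
  obtain ⟨S, -, hsz, hrep⟩ := exists_suborbitsJ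
  haveI : Finite P₀ := Nat.finite_of_card_ne_zero (ne_of_eq_of_ne card_eq (by decide))
  haveI : Nontrivial P₀ :=
    Finite.one_lt_card_iff_nontrivial.1 (lt_of_lt_of_eq (by decide) card_eq.symm)
  refine Held.isSimpleGroup_of_prime_element S (i₀ := 0) rfl hrep ?_ (fun u hu => rho_injective ?_)
    (p := 19) (by decide) ⟨8160, ?_, by decide⟩ (ev (presGen ActJ.act.k relsJ) wordN) ?_ fun K hK hwK => ?_
  · rw [Nat.card_fin, show S.size = fun i => [1, 85, 680, 1360, 1360, 2040, 510, 120].get i from funext hsz]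
    decide +kernel
  · rw [map_one]
    exact Equiv.ext hu
  · rw [card_eq, Nat.card_fin]
    rfl
  · rw [← ev_powWord]
    refine rho_injective ?_
    rw [ActJ.valid.rho_eq sameOK_nineteen]
    simp [ev]
  · refine eq_top_of_collapse Nineteen.cosetCert K hK fun p hp => ?_
    rw [List.mem_singleton.1 hp]
    exact K.pow_mem hwK _

theorem isJ3 : Cfsg.IsJ3 P₀ := ⟨simple, card_eq⟩

theorem exists_moving (x y : Fin ActJ.act.n) : ∃ u ∈ ActJ.valid.rho.range, u x = y := by
  obtain ⟨S, -, -, -⟩ := exists_suborbitsJ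
  obtain ⟨g, hg⟩ := S.trans x
  obtain ⟨g', hg'⟩ := S.trans y
  refine ⟨ActJ.valid.rho (g' * g⁻¹), ⟨_, rfl⟩, ?_⟩
  show (g' * g⁻¹) • x = y
  rw [mul_smul, ← hg, inv_smul_smul, hg']

/-- The image on 6156 points. -/
noncomputable def permGroup : Subgroup (Equiv.Perm (Fin 6156)) := ActJ.valid.rho.range

theorem card_stabilizer (b : Fin ActJ.act.n) (hb : (b : ℕ) = 0) :
    Nat.card (stabilizer ActJ.valid.rho.range b) = 8160 := by
  obtain ⟨S, h0, -, -⟩ := exists_suborbitsJ
  obtain rfl : S.a = b := Fin.ext (h0.trans hb.symm)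
  let e := MonoidHom.ofInjective rho_injective
  have h : subH.map e.toMonoidHom = stabilizer ActJ.valid.rho.range S.a := by
    ext y
    rw [Subgroup.mem_map_equiv, ← S.mem_iff, mem_stabilizer_iff]
    have : (y : Equiv.Perm (Fin ActJ.act.n)) = ActJ.valid.rho (e.symm y) :=
      (MonoidHom.apply_ofInjective_symm rho_injective y).symm
    show _ ↔ (y : Equiv.Perm (Fin ActJ.act.n)) S.a = S.a
    rw [this]
    rfl
  rw [← h]
  exact (Subgroup.card_map_of_injective (f := e.toMonoidHom) e.injective).trans card_subH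

theorem realization :
    ∃ H : Subgroup (Equiv.Perm (Fin 6156)), Cfsg.IsJ3 H ∧ MulAction.IsPretransitive H (Fin 6156) ∧
      Nat.card (MulAction.stabilizer H (0 : Fin 6156)) = 8160 := by
  refine ⟨permGroup, ?_, ⟨fun x y => ?_⟩, card_stabilizer (0 : Fin 6156) rfl⟩
  · haveI := simple
    have e := MonoidHom.ofInjective rho_injective
    exact ⟨e.symm.isSimpleGroup, (Nat.card_congr e.toEquiv).symm.trans card_eq⟩
  · obtain ⟨u, hu, h⟩ := exists_moving x y
    exact ⟨⟨u, hu⟩, h⟩

end CfsgLib.Spor.J3
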